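import Mathlib
import Cfsg.Prelude.Def_Characters
import Cfsg.Prelude.Def_ParabolicCharacters
import Cfsg.Prelude.Def_LinearParabolics
import Cfsg.Agent.Lib.Helper5.GLUBruhat
import Cfsg.Agent.Lib.Helper79.BrauerN.IndLin

/-!
# S4538 (blocks of `SL_n(q)` in the defining characteristic): common definitions (helper82)

* `borelFun θ` : the linear character `b ↦ ∏ i, θ i (b i i)` of the Borel subgroup
  `Cfsg.upperTriangularGL n F` of `GL_n(F)` attached to a tuple of multiplicative characters;
* `unitriGL n F` : the upper unitriangular subgroup of `GL_n(F)`;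
* `ggFun ψ₀` : the non-degenerate linear character `u ↦ ψ₀ (∑ i, u i (i+1))` of `unitriGL n F`
  (the Gelfand–Graev character is induced from it).
-/

set_option autoImplicit false

namespace Cfsg.Agent.Lib.Helper82.SLDZ

open Matrix
open scoped MatrixGroups

variable {F : Type*} [Field F] {n : ℕ}

/-- The diagonal linear character of the Borel subgroup: `b ↦ ∏ i, θ i (b i i)`. -/
noncomputable def borelFun (θ : Fin n → MulChar F ℂ) : ↥(Cfsg.upperTriangularGL n F) → ℂ :=
  fun b => ∏ i : Fin n, θ i (((b : GL (Fin n) F) : Matrix (Fin n) (Fin n) F) i i)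

/-- The upper unitriangular subgroup of `GL_n(F)`. -/
def unitriGL (n : ℕ) (F : Type*) [Field F] : Subgroup (GL (Fin n) F) where
  carrier := {g | ∀ i j : Fin n, j ≤ i →
    (g : Matrix (Fin n) (Fin n) F) i j = (1 : Matrix (Fin n) (Fin n) F) i j}
  one_mem' := fun i j _ => rfl
  mul_mem' := by
    intro s t hs ht i j hji
    rw [Units.val_mul, mul_apply, Finset.sum_eq_single i]
    · rw [hs i i le_rfl, ht i j hji, one_apply_eq, one_mul]
    · intro k _ hki
      rcases lt_or_gt_of_ne hki with h | h
      · rw [hs i k h.le, one_apply_ne (Ne.symm hki), zero_mul]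
      · rw [ht k j (hji.trans h.le), one_apply_ne (ne_of_gt (lt_of_le_of_lt hji h)), mul_zero]
    · intro h
      exact absurd (Finset.mem_univ i) h
  inv_mem' := by
    intro s hs
    have hsT : (s : Matrix (Fin n) (Fin n) F).BlockTriangular id := by
      intro i j hji
      have hji' : j < i := hji
      have := hs i j (le_of_lt hji')
      show (s : Matrix (Fin n) (Fin n) F) i j = 0
      rw [this, one_apply_ne (ne_of_gt hji')]
    have hinvT : ((s⁻¹ : GL (Fin n) F) : Matrix (Fin n) (Fin n) F).BlockTriangular id := by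
      have : Invertible (s : Matrix (Fin n) (Fin n) F) := s.invertible
      rw [Matrix.coe_units_inv]
      exact Matrix.blockTriangular_inv_of_blockTriangular hsT
    intro i j hji
    rcases lt_or_eq_of_le hji with h | h
    · rw [one_apply_ne (ne_of_gt h)]
      exact hinvT h
    · subst h
      rw [one_apply_eq]
      have h1 : ((s * s⁻¹ : GL (Fin n) F) : Matrix (Fin n) (Fin n) F) j j = 1 := by
        rw [mul_inv_cancel, Units.val_one, one_apply_eq]
      rw [Units.val_mul, mul_apply, Finset.sum_eq_single j] at h1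
      · rwa [hs j j le_rfl, one_apply_eq, one_mul] at h1
      · intro k _ hkj
        rcases lt_or_gt_of_ne hkj with h | h
        · rw [hs j k h.le, one_apply_ne (Ne.symm hkj), zero_mul]
        · rw [hinvT h, mul_zero]
      · intro h
        exact absurd (Finset.mem_univ j) h

theorem mem_unitriGL {g : GL (Fin n) F} :
    g ∈ unitriGL n F ↔ ∀ i j : Fin n, j ≤ i →
      (g : Matrix (Fin n) (Fin n) F) i j = (1 : Matrix (Fin n) (Fin n) F) i j := Iff.rfl

theorem unitriGL_le_upperTriangularGL : unitriGL n F ≤ Cfsg.upperTriangularGL n F := by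
  intro g hg i j hji
  have hji' : j < i := hji
  have := hg i j (le_of_lt hji')
  show (g : Matrix (Fin n) (Fin n) F) i j = 0
  rw [this, one_apply_ne (ne_of_gt hji')]

/-- The non-degenerate linear character of the unitriangular group attached to the additive
character `ψ₀`: `u ↦ ψ₀ (∑ i, u i (i+1))`. -/
noncomputable def ggFun (ψ₀ : AddChar F ℂ) : ↥(unitriGL n F) → ℂ :=
  fun u => ψ₀ (∑ i : Fin n, if h : i.val + 1 < n then
    ((u : GL (Fin n) F) : Matrix (Fin n) (Fin n) F) i ⟨i.val + 1, h⟩ else 0)

/-- diagonal entries of a product of upper triangular matrices -/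
theorem upperTriangular_mul_diag {A B : Matrix (Fin n) (Fin n) F} (hA : A.BlockTriangular id)
    (hB : B.BlockTriangular id) (i : Fin n) : (A * B) i i = A i i * B i i := by
  rw [mul_apply, Finset.sum_eq_single i]
  · intro k _ hki
    rcases lt_or_gt_of_ne hki with h | h
    · rw [hA (show id k < id i from h), zero_mul]
    · rw [hB (show id i < id k from h), mul_zero]
  · intro h
    exact absurd (Finset.mem_univ i) h

/-- `borelFun θ` as a monoid homomorphism to `ℂ`. -/
noncomputable def borelMonoidHom (θ : Fin n → MulChar F ℂ) :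
    ↥(Cfsg.upperTriangularGL n F) →* ℂ where
  toFun := borelFun θ
  map_one' := by
    unfold borelFun
    apply Finset.prod_eq_one
    intro i _
    rw [OneMemClass.coe_one, Units.val_one, one_apply_eq, map_one]
  map_mul' := by
    intro a b
    unfold borelFun
    rw [← Finset.prod_mul_distrib]
    apply Finset.prod_congr rfl
    intro i _
    rw [Subgroup.coe_mul, Units.val_mul, upperTriangular_mul_diag a.2 b.2, map_mul]

/-- `borelFun θ` as a homomorphism to `ℂˣ`. -/
noncomputable def borelHom (θ : Fin n → MulChar F ℂ) :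
    ↥(Cfsg.upperTriangularGL n F) →* ℂˣ := (borelMonoidHom θ).toHomUnits

theorem linFun_borelHom (θ : Fin n → MulChar F ℂ) :
    Cfsg.Agent.Lib.Helper79.BrauerN.linFun (borelHom θ) = borelFun θ := by
  funext b
  rfl

/-- the superdiagonal sum of a unitriangular matrix -/
def superSum (A : Matrix (Fin n) (Fin n) F) : F :=
  ∑ i : Fin n, if h : i.val + 1 < n then A i ⟨i.val + 1, h⟩ else 0

theorem ggFun_apply (ψ₀ : AddChar F ℂ) (u : ↥(unitriGL n F)) :
    ggFun ψ₀ u = ψ₀ (superSum ((u : GL (Fin n) F) : Matrix (Fin n) (Fin n) F)) := rfl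

theorem superSum_mul {a b : GL (Fin n) F} (ha : a ∈ unitriGL n F) (hb : b ∈ unitriGL n F) :
    superSum ((a * b : GL (Fin n) F) : Matrix (Fin n) (Fin n) F) =
      superSum (a : Matrix (Fin n) (Fin n) F) + superSum (b : Matrix (Fin n) (Fin n) F) := by
  unfold superSum
  rw [← Finset.sum_add_distrib]
  apply Finset.sum_congr rfl
  intro i _
  by_cases h : i.val + 1 < n
  · rw [dif_pos h, dif_pos h, dif_pos h, Units.val_mul, mul_apply]
    set j : Fin n := ⟨i.val + 1, h⟩ with hj
    have hij : i < j := by
      rw [Fin.lt_def]; simp [hj]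
    have hne : i ≠ j := ne_of_lt hij
    rw [Finset.sum_eq_add_of_mem i j (Finset.mem_univ _) (Finset.mem_univ _) hne]
    · rw [ha i i le_rfl, hb j j le_rfl, one_apply_eq, one_apply_eq, one_mul, mul_one, add_comm]
    · intro k _ hk
      rcases lt_trichotomy k i with h1 | h1 | h1
      · rw [ha i k h1.le, one_apply_ne (ne_of_gt h1), zero_mul]
      · exact absurd h1 hk.1
      · have h2 : j < k := by
          rcases lt_or_eq_of_le (show j ≤ k from by
            rw [Fin.le_def]; simp only [hj]; exact h1) with h3 | h3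
          · exact h3
          · exact absurd h3.symm hk.2
        rw [hb k j h2.le, one_apply_ne (ne_of_gt h2), mul_zero]
  · rw [dif_neg h, dif_neg h, dif_neg h, add_zero]

/-- `ggFun ψ₀` as a homomorphism to `ℂˣ`. -/
noncomputable def ggHom (ψ₀ : AddChar F ℂ) : ↥(unitriGL n F) →* ℂˣ :=
  MonoidHom.toHomUnits
    { toFun := ggFun ψ₀
      map_one' := by
        rw [ggFun_apply]
        have : superSum (((1 : ↥(unitriGL n F)) : GL (Fin n) F) : Matrix (Fin n) (Fin n) F) = 0 := by
          unfold superSum
          apply Finset.sum_eq_zero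
          intro i _
          by_cases h : i.val + 1 < n
          · rw [dif_pos h, OneMemClass.coe_one, Units.val_one, one_apply_ne]
            intro hh
            have := congrArg Fin.val hh
            simp at this
          · rw [dif_neg h]
        rw [this, AddChar.map_zero_eq_one]
      map_mul' := by
        intro a b
        rw [ggFun_apply, ggFun_apply, ggFun_apply, Subgroup.coe_mul, superSum_mul a.2 b.2,
          AddChar.map_add_eq_mul] }

theorem linFun_ggHom (ψ₀ : AddChar F ℂ) :
    Cfsg.Agent.Lib.Helper79.BrauerN.linFun (ggHom (n := n) ψ₀) = ggFun ψ₀ := by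
  funext u
  rfl

/-- compatibility of the linear characters `α` of `H` and `β` of `K` at `x`:
`α = β^x` on `H ∩ x K x⁻¹` (Mackey). -/
def Compat {G : Type*} [Group G] {H K : Subgroup G} (α : ↥H →* ℂˣ) (β : ↥K →* ℂˣ) (x : G) : Prop :=
  ∀ (h : G) (hh : h ∈ H) (hk : x⁻¹ * h * x ∈ K), α ⟨h, hh⟩ = β ⟨x⁻¹ * h * x, hk⟩

/-- The Steinberg character of `SL_n(F)`: the restriction of the Steinberg character of `GL_n(F)`. -/
noncomputable def stSL (n : ℕ) (F : Type*) [Field F] : Matrix.SpecialLinearGroup (Fin n) F → ℂ :=
  Cfsg.unipotentCharacterGL n F (fun _ => 1) ∘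
    (Matrix.SpecialLinearGroup.toGL : Matrix.SpecialLinearGroup (Fin n) F →* GL (Fin n) F)

end Cfsg.Agent.Lib.Helper82.SLDZ
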