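import Mathlib
import Cfsg.Agent.Lib.Helper82.SLDZ.Defs
import Cfsg.Agent.Lib.Helper98.SLDZM1
import Cfsg.Agent.Lib.Helper98.SLDZM2
import Cfsg.Agent.Lib.Helper23.SLDZM3
import Cfsg.Agent.S0165
import Cfsg.Agent.Lib.Helper78.CharMore
import Cfsg.Agent.Lib.Helper80.DG.FrobB
import Cfsg.Agent.Lib.Helper45.PSLAut.Unitri
import Cfsg.Agent.Lib.Helper5.GLUPSL

/-!
# S4538-[M4]: irreducible characters of `GL_n(q)` of `p`-defect zero agree on `SL_n(q)` (helper82)
-/

set_option autoImplicit false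
set_option linter.unusedSectionVars false

namespace Cfsg.Agent.Lib.Helper82.SLDZ

open Cfsg Matrix
open scoped MatrixGroups ComplexConjugate
open Cfsg.Agent.Lib.Helper79.BrauerN (linFun)
open Cfsg.Agent.Lib.Helper78
open Cfsg.Agent.Lib.Helper80.DG (isIrrCharacter_mul_homFun homFun_mul_conj)
open Cfsg.Agent.Lib.Helper80 (homFun)
open Cfsg.Agent.Lib.Helper98.SLDZ (indFun_borelFun_comp_perm inner_borel_gg_le_one)
open Cfsg.Agent.Lib.Helper23.SLDZM3 (card_unitriGL sum_classInner_indFun_borelFun classInner_indFun_ggFun)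

section general

universe u

variable {G : Type u} [Group G] [Fintype G]

/-- for characters `Φ`, `Ψ` and an irreducible `χ`: `⟨χ,Φ⟩·⟨χ,Ψ⟩ ≤ ⟨Φ,Ψ⟩` -/
theorem mul_le_classInner {Φ Ψ : G → ℂ} (hΦ : IsCharacter G Φ) (hΨ : IsCharacter G Ψ)
    (χ : IrrCharacter G) (a b k : ℕ) (ha : classInner Φ (χ : G → ℂ) = a)
    (hb : classInner Ψ (χ : G → ℂ) = b) (hk : classInner Φ Ψ = k) : a * b ≤ k := by
  classical
  choose A hA using fun φ => IsCharacter.exists_nat_classInner hΦ φ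
  choose B hB using fun φ => IsCharacter.exists_nat_classInner hΨ φ
  have h1 := classInner_eq_sum_mul_conj Ψ (IsCharacter.isClassFunction hΦ)
  have h2 : (k : ℂ) = ((∑ φ : IrrCharacter G, A φ * B φ : ℕ) : ℂ) := by
    rw [← hk, h1]
    push_cast
    apply Finset.sum_congr rfl
    intro φ _
    rw [hA, hB, Complex.conj_natCast]
  have h3 : k = ∑ φ : IrrCharacter G, A φ * B φ := by exact_mod_cast h2
  have hAχ : A χ = a := by
    have := hA χ
    rw [ha] at this
    exact_mod_cast this.symm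
  have hBχ : B χ = b := by
    have := hB χ
    rw [hb] at this
    exact_mod_cast this.symm
  rw [h3, ← hAχ, ← hBχ]
  exact Finset.single_le_sum (f := fun φ => A φ * B φ) (fun _ _ => Nat.zero_le _)
    (Finset.mem_univ χ)

/-- for characters `Φ`, `Ψ` and two distinct irreducible `χ`, `χ'` -/
theorem add_le_classInner {Φ Ψ : G → ℂ} (hΦ : IsCharacter G Φ) (hΨ : IsCharacter G Ψ)
    (χ χ' : IrrCharacter G) (hne : χ ≠ χ') (k : ℕ)
    (ha : classInner Φ (χ : G → ℂ) = 1) (hb : classInner Ψ (χ : G → ℂ) = 1)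
    (ha' : classInner Φ (χ' : G → ℂ) = 1) (hb' : classInner Ψ (χ' : G → ℂ) = 1)
    (hk : classInner Φ Ψ = k) : 2 ≤ k := by
  classical
  choose A hA using fun φ => IsCharacter.exists_nat_classInner hΦ φ
  choose B hB using fun φ => IsCharacter.exists_nat_classInner hΨ φ
  have h1 := classInner_eq_sum_mul_conj Ψ (IsCharacter.isClassFunction hΦ)
  have h2 : (k : ℂ) = ((∑ φ : IrrCharacter G, A φ * B φ : ℕ) : ℂ) := by
    rw [← hk, h1]
    push_cast
    apply Finset.sum_congr rfl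
    intro φ _
    rw [hA, hB, Complex.conj_natCast]
  have h3 : k = ∑ φ : IrrCharacter G, A φ * B φ := by exact_mod_cast h2
  have e1 : A χ = 1 := by
    have := hA χ; rw [ha] at this; exact_mod_cast this.symm
  have e2 : B χ = 1 := by
    have := hB χ; rw [hb] at this; exact_mod_cast this.symm
  have e3 : A χ' = 1 := by
    have := hA χ'; rw [ha'] at this; exact_mod_cast this.symm
  have e4 : B χ' = 1 := by
    have := hB χ'; rw [hb'] at this; exact_mod_cast this.symm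
  have h4 : ∑ φ ∈ ({χ, χ'} : Finset (IrrCharacter G)), A φ * B φ ≤
      ∑ φ : IrrCharacter G, A φ * B φ :=
    Finset.sum_le_sum_of_subset (Finset.subset_univ _)
  rw [Finset.sum_pair hne, e1, e2, e3, e4] at h4
  omega

/-- induction commutes with multiplication by a class function of the big group -/
theorem indFun_mul_res (H : Subgroup G) (α : ↥H → ℂ) (φ : G → ℂ) (hφ : IsClassFunction G φ) :
    indFun H (fun h => α h * φ h) = fun g => indFun H α g * φ g := by
  classical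
  funext g
  unfold indFun
  rw [mul_assoc, Finset.sum_mul]
  congr 1
  apply Finset.sum_congr rfl
  intro x _
  by_cases hx : x⁻¹ * g * x ∈ H
  · rw [extendByZero_apply_of_mem H _ hx, extendByZero_apply_of_mem H _ hx]
    have : φ (x⁻¹ * g * x) = φ g := by
      have := hφ g x⁻¹
      rwa [inv_inv] at this
    show α _ * φ (x⁻¹ * g * x) = _
    rw [this]
  · rw [extendByZero_apply_not_mem H _ hx, extendByZero_apply_not_mem H _ hx, zero_mul]

/-- twisting both sides by a unimodular function does not change the inner product -/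
theorem classInner_mul_mul (f₁ f₂ φ : G → ℂ) (hφ : ∀ g, φ g * conj (φ g) = 1) :
    classInner (fun g => f₁ g * φ g) (fun g => f₂ g * φ g) = classInner f₁ f₂ := by
  unfold classInner
  congr 1
  apply Finset.sum_congr rfl
  intro g _
  rw [map_mul]
  calc f₁ g * φ g * (conj (f₂ g) * conj (φ g)) = f₁ g * conj (f₂ g) * (φ g * conj (φ g)) := by ring
    _ = f₁ g * conj (f₂ g) := by rw [hφ, mul_one]

end general

section glsec

variable {F : Type*} [Field F] [Fintype F] {n : ℕ}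

/-- the linear character `μ ∘ det` of `GL_n(F)` -/
noncomputable def detHom (μ : MulChar F ℂ) : GL (Fin n) F →* ℂˣ :=
  μ.toUnitHom.comp Matrix.GeneralLinearGroup.det

theorem homFun_detHom (μ : MulChar F ℂ) (g : GL (Fin n) F) :
    homFun (detHom μ) g = μ ((g : Matrix (Fin n) (Fin n) F).det) := by
  show ((μ.toUnitHom (Matrix.GeneralLinearGroup.det g) : ℂˣ) : ℂ) = _
  rw [MulChar.coe_toUnitHom]
  rfl

theorem homFun_detHom_toGL (μ : MulChar F ℂ) (s : Matrix.SpecialLinearGroup (Fin n) F) :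
    homFun (detHom μ) (Matrix.SpecialLinearGroup.toGL s) = 1 := by
  rw [homFun_detHom]
  have : ((Matrix.SpecialLinearGroup.toGL s : GL (Fin n) F) : Matrix (Fin n) (Fin n) F) =
      (s : Matrix (Fin n) (Fin n) F) := rfl
  rw [this, s.2, map_one]

theorem borelFun_mul_const (θ : Fin n → MulChar F ℂ) (μ : MulChar F ℂ)
    (b : ↥(upperTriangularGL n F)) :
    borelFun (fun i => θ i * μ) b = borelFun θ b * homFun (detHom μ) (b : GL (Fin n) F) := by
  unfold borelFun
  rw [homFun_detHom, Matrix.det_of_isUpperTriangular b.2, map_prod, ← Finset.prod_mul_distrib]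
  apply Finset.prod_congr rfl
  intro i _
  rw [MulChar.mul_apply]

variable [Fintype (GL (Fin n) F)]

theorem isCharacter_indFun_borelFun (θ : Fin n → MulChar F ℂ) :
    IsCharacter (GL (Fin n) F) (indFun (upperTriangularGL n F) (borelFun θ)) := by
  rw [← linFun_borelHom]
  exact Cfsg.Agent.Lib.Helper79.BrauerN.isCharacter_indFun_linFun _ _

theorem isCharacter_indFun_ggFun (ψ₀ : AddChar F ℂ) :
    IsCharacter (GL (Fin n) F) (indFun (unitriGL n F) (ggFun ψ₀)) := by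
  rw [← linFun_ggHom]
  exact Cfsg.Agent.Lib.Helper79.BrauerN.isCharacter_indFun_linFun _ _

/-- twisting by `μ ∘ det` -/
theorem classInner_twist (χ : GL (Fin n) F → ℂ) (θ : Fin n → MulChar F ℂ) (μ : MulChar F ℂ) :
    classInner (χ * homFun (detHom μ))
      (indFun (upperTriangularGL n F) (borelFun (fun i => θ i * μ))) =
    classInner χ (indFun (upperTriangularGL n F) (borelFun θ)) := by
  have h1 : borelFun (fun i => θ i * μ) =
      fun b : ↥(upperTriangularGL n F) => borelFun θ b * homFun (detHom μ) (b : GL (Fin n) F) := by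
    funext b
    exact borelFun_mul_const θ μ b
  have hcl : IsClassFunction (GL (Fin n) F) (homFun (detHom (n := n) μ)) :=
    IsCharacter.isClassFunction (IsIrrCharacter.isCharacter
      (Cfsg.Agent.Lib.Helper77.isIrrCharacter_of_monoidHom (detHom μ)))
  rw [h1, indFun_mul_res _ _ _ hcl]
  exact classInner_mul_mul χ _ _ (fun g => homFun_mul_conj (detHom μ) g)

section analysis

/-- an irreducible character of `GL_n(q)` of degree divisible by `q^N` vanishes on `p`-singular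
elements -/
theorem vanish_of_defect_zero (p : ℕ) [hp : Fact p.Prime] [CharP F p] (χ : GL (Fin n) F → ℂ) (hχ : IsIrrCharacter (GL (Fin n) F) χ)
    (hd : ∃ d : ℕ, χ 1 = (d : ℂ) ∧ (∏ j : Fin n, Fintype.card F ^ (j : ℕ)) ∣ d)
    (g : GL (Fin n) F) (hg : p ∣ orderOf g) : χ g = 0 := by
  classical
  obtain ⟨f, -, hF⟩ := FiniteField.card F p
  have hf : 1 ≤ (f : ℕ) := f.2
  obtain ⟨m, ρ, hirr, hχρ⟩ := hχ
  obtain ⟨d, hd1, hd2⟩ := hd
  set e := ∑ j : Fin n, (f : ℕ) * (j : ℕ) with he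
  have hM := Cfsg.Agent.Lib.Helper5.GLU.prod_pow_eq (F := F) (n := n) p f hF
  have hcard := Cfsg.Agent.Lib.Helper45.PSLAut.card_GL_eq (F := F) (n := n)
  rw [hM] at hcard
  have hnd := Cfsg.Agent.Lib.Helper5.GLU.not_dvd_prod_sub_one (F := F) (n := n) p f hp.out hf hF
  have hdm : d = m := by
    have h1 : ρ.character 1 = (m : ℂ) := by
      rw [Representation.char_one]
      simp
    rw [hχρ, hd1] at h1
    exact_mod_cast h1
  rw [← hχρ]
  haveI := hirr
  apply Cfsg.Agent.S0165.result ρ p e hp.out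
  · rw [hcard]; exact Dvd.intro _ rfl
  · rw [hcard, pow_succ]
    intro hcon
    exact hnd (Nat.dvd_of_mul_dvd_mul_left (pow_pos hp.out.pos e) hcon)
  · rw [Module.finrank_fin_fun, ← hdm, ← hM]
    exact hd2
  · exact hg

/-- nontrivial unitriangular elements are `p`-singular -/
theorem dvd_orderOf_of_mem_unitriGL (p : ℕ) [hp : Fact p.Prime] [CharP F p] (u : GL (Fin n) F) (hu : u ∈ unitriGL n F) (hu1 : u ≠ 1) :
    p ∣ orderOf u := by
  classical
  obtain ⟨f, -, hF⟩ := FiniteField.card F p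
  have hM := Cfsg.Agent.Lib.Helper5.GLU.prod_pow_eq (F := F) (n := n) p f hF
  have hU : Nat.card (unitriGL n F) = p ^ (∑ j : Fin n, (f : ℕ) * (j : ℕ)) := by
    rw [card_unitriGL, hM]
  have h1 : orderOf (⟨u, hu⟩ : ↥(unitriGL n F)) ∣ Nat.card (unitriGL n F) := orderOf_dvd_natCard _
  rw [Subgroup.orderOf_mk, hU] at h1
  obtain ⟨k, -, hk⟩ := (Nat.dvd_prime_pow hp.out).mp h1
  rcases Nat.eq_zero_or_pos k with h0 | h0
  · rw [h0, pow_zero, orderOf_eq_one_iff] at hk
    exact absurd hk hu1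
  · rw [hk]
    exact dvd_pow_self p h0.ne'

theorem defect_zero_analysis (p : ℕ) [hp : Fact p.Prime] [CharP F p] (hn : 0 < n) (χ : GL (Fin n) F → ℂ)
    (hχ : IsIrrCharacter (GL (Fin n) F) χ)
    (hd : ∃ d : ℕ, χ 1 = (d : ℂ) ∧ (∏ j : Fin n, Fintype.card F ^ (j : ℕ)) ∣ d)
    (ψ₀ : AddChar F ℂ) (hψ : ψ₀ ≠ 1) :
    classInner χ (indFun (unitriGL n F) (ggFun ψ₀)) = 1 ∧
      ∃ μ : MulChar F ℂ,
        classInner χ (indFun (upperTriangularGL n F) (borelFun (fun _ : Fin n => μ))) = 1 := by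
  classical
  have hcl : IsClassFunction (GL (Fin n) F) χ :=
    IsCharacter.isClassFunction (IsIrrCharacter.isCharacter hχ)
  have hvan : ∀ u ∈ unitriGL n F, u ≠ 1 → χ u = 0 := fun u hu hu1 =>
    vanish_of_defect_zero p χ hχ hd u (dvd_orderOf_of_mem_unitriGL p u hu hu1)
  have hU := card_unitriGL (F := F) (n := n)
  obtain ⟨d, hd1, m, rfl⟩ := hd
  have hQpos : 0 < ∏ j : Fin n, Fintype.card F ^ (j : ℕ) :=
    Finset.prod_pos fun j _ => pow_pos Fintype.card_pos _
  have hQ0 : ((∏ j : Fin n, Fintype.card F ^ (j : ℕ) : ℕ) : ℂ) ≠ 0 := by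
    exact_mod_cast hQpos.ne'
  have hdiv : χ 1 / (Nat.card (unitriGL n F) : ℂ) = (m : ℂ) := by
    rw [hd1, hU, Nat.cast_mul, mul_div_cancel_left₀ _ hQ0]
  have hmpos : 1 ≤ m := by
    rcases Nat.eq_zero_or_pos m with h0 | h0
    · exfalso
      rw [h0, mul_zero, Nat.cast_zero] at hd1
      exact Cfsg.Agent.Lib.Helper79.irr_apply_one_ne_zero ⟨χ, hχ⟩ hd1
    · exact h0
  have hΓ : classInner χ (indFun (unitriGL n F) (ggFun ψ₀)) = (m : ℂ) := by
    rw [classInner_indFun_ggFun χ hcl hvan ψ₀, hdiv]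
  have hsum := sum_classInner_indFun_borelFun χ hcl hvan
  rw [hdiv] at hsum
  -- natural multiplicities
  have hnat : ∀ θ : Fin n → MulChar F ℂ, ∃ a : ℕ,
      classInner (indFun (upperTriangularGL n F) (borelFun θ)) χ = (a : ℂ) := fun θ =>
    IsCharacter.exists_nat_classInner (isCharacter_indFun_borelFun θ) ⟨χ, hχ⟩
  choose a ha using hnat
  have ha' : ∀ θ, classInner χ (indFun (upperTriangularGL n F) (borelFun θ)) = (a θ : ℂ) := by
    intro θ
    rw [← classInner_conj_symm, ha, Complex.conj_natCast]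
  have hΓ' : classInner (indFun (unitriGL n F) (ggFun ψ₀)) χ = (m : ℂ) := by
    rw [← classInner_conj_symm, hΓ, Complex.conj_natCast]
  have key : ∀ θ, a θ * m ≤ 1 := by
    intro θ
    obtain ⟨k, hk1, hk⟩ := inner_borel_gg_le_one θ ψ₀ hψ
    exact (mul_le_classInner (isCharacter_indFun_borelFun θ) (isCharacter_indFun_ggFun ψ₀)
      ⟨χ, hχ⟩ (a θ) m k (ha θ) hΓ' hk).trans hk1
  haveI : Fintype (Fin n → MulChar F ℂ) := Fintype.ofFinite _
  have hsumN : ∑ θ : Fin n → MulChar F ℂ, a θ = m := by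
    rw [finsum_eq_sum_of_fintype] at hsum
    simp_rw [ha'] at hsum
    exact_mod_cast hsum
  obtain ⟨θ₀, hθ₀⟩ : ∃ θ₀, 1 ≤ a θ₀ := by
    by_contra hcon
    push Not at hcon
    have : ∑ θ : Fin n → MulChar F ℂ, a θ = 0 :=
      Finset.sum_eq_zero fun θ _ => Nat.lt_one_iff.mp (hcon θ)
    omega
  have h1 := key θ₀
  have ha1 : a θ₀ = 1 := by nlinarith
  have hm1 : m = 1 := by nlinarith
  have huniq : ∀ θ, 1 ≤ a θ → θ = θ₀ := by
    intro θ hθ
    by_contra hne
    have h4 : ∑ φ ∈ ({θ, θ₀} : Finset (Fin n → MulChar F ℂ)), a φ ≤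
        ∑ φ : Fin n → MulChar F ℂ, a φ :=
      Finset.sum_le_sum_of_subset (Finset.subset_univ _)
    rw [Finset.sum_pair hne, hsumN] at h4
    omega
  have hW : ∀ w : Equiv.Perm (Fin n), θ₀ ∘ w = θ₀ := by
    intro w
    apply huniq
    have : (a (θ₀ ∘ w) : ℂ) = (a θ₀ : ℂ) := by
      rw [← ha', ← ha', indFun_borelFun_comp_perm]
    have : a (θ₀ ∘ w) = a θ₀ := by exact_mod_cast this
    omega
  refine ⟨by rw [hΓ, hm1, Nat.cast_one], θ₀ ⟨0, hn⟩, ?_⟩
  have hconst : θ₀ = fun _ : Fin n => θ₀ ⟨0, hn⟩ := by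
    funext i
    have := congrFun (hW (Equiv.swap i ⟨0, hn⟩)) i
    rw [Function.comp_apply, Equiv.swap_apply_left] at this
    exact this.symm
  rw [← hconst, ha', ha1, Nat.cast_one]

/-- **[M4]** two irreducible characters of `GL_n(q)` of degree divisible by `q^N` agree on
`SL_n(q)`. -/
theorem eq_on_SL_of_defect_zero (p : ℕ) [Fact p.Prime] [CharP F p] (hn : 0 < n)
    (χ₁ χ₂ : GL (Fin n) F → ℂ) (h₁ : IsIrrCharacter (GL (Fin n) F) χ₁)
    (h₂ : IsIrrCharacter (GL (Fin n) F) χ₂)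
    (hd₁ : ∃ d : ℕ, χ₁ 1 = (d : ℂ) ∧ (∏ j : Fin n, Fintype.card F ^ (j : ℕ)) ∣ d)
    (hd₂ : ∃ d : ℕ, χ₂ 1 = (d : ℂ) ∧ (∏ j : Fin n, Fintype.card F ^ (j : ℕ)) ∣ d)
    (s : Matrix.SpecialLinearGroup (Fin n) F) :
    χ₁ (Matrix.SpecialLinearGroup.toGL s) = χ₂ (Matrix.SpecialLinearGroup.toGL s) := by
  classical
  obtain ⟨ψ₀, hψ₀⟩ := (AddChar.exists_apply_ne_zero (α := F) (a := 1)).mpr one_ne_zero
  have hψ : ψ₀ ≠ 1 := by
    intro h
    rw [h] at hψ₀
    exact hψ₀ rfl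
  obtain ⟨hΓ₁, μ₁, hB₁⟩ := defect_zero_analysis p hn χ₁ h₁ hd₁ ψ₀ hψ
  obtain ⟨-, μ₂, hB₂⟩ := defect_zero_analysis p hn χ₂ h₂ hd₂ ψ₀ hψ
  -- the twist of χ₂
  set ν : MulChar F ℂ := μ₂⁻¹ * μ₁ with hν
  set χ₂' : GL (Fin n) F → ℂ := χ₂ * homFun (detHom ν) with hχ₂'
  have h₂' : IsIrrCharacter (GL (Fin n) F) χ₂' := isIrrCharacter_mul_homFun h₂ (detHom ν)
  have hone : homFun (detHom (n := n) ν) 1 = 1 := by
    show (((detHom (n := n) ν) 1 : ℂˣ) : ℂ) = 1
    rw [map_one, Units.val_one]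
  have hd₂' : ∃ d : ℕ, χ₂' 1 = (d : ℂ) ∧ (∏ j : Fin n, Fintype.card F ^ (j : ℕ)) ∣ d := by
    obtain ⟨d, hd, hdv⟩ := hd₂
    refine ⟨d, ?_, hdv⟩
    rw [hχ₂', Pi.mul_apply, hone, mul_one, hd]
  obtain ⟨hΓ₂', -, -⟩ := defect_zero_analysis p hn χ₂' h₂' hd₂' ψ₀ hψ
  have hB₂' : classInner χ₂' (indFun (upperTriangularGL n F) (borelFun (fun _ : Fin n => μ₁))) =
      1 := by
    have h := classInner_twist χ₂ (fun _ : Fin n => μ₂) ν
    have e : (fun _ : Fin n => μ₂ * ν) = fun _ : Fin n => μ₁ := by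
      funext _
      rw [hν, ← mul_assoc, mul_inv_cancel, one_mul]
    rw [e, hB₂] at h
    exact h
  -- χ₁ = χ₂'
  have heq : χ₁ = χ₂' := by
    by_contra hne
    have hne' : (⟨χ₁, h₁⟩ : IrrCharacter (GL (Fin n) F)) ≠ ⟨χ₂', h₂'⟩ := by
      intro h
      exact hne (congrArg Subtype.val h)
    obtain ⟨k, hk1, hk⟩ := inner_borel_gg_le_one (fun _ : Fin n => μ₁) ψ₀ hψ
    have hsymm : ∀ (Φ f : GL (Fin n) F → ℂ), classInner f Φ = 1 → classInner Φ f = 1 := by
      intro Φ f h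
      rw [← classInner_conj_symm, h, map_one]
    have := add_le_classInner (isCharacter_indFun_borelFun (fun _ : Fin n => μ₁))
      (isCharacter_indFun_ggFun ψ₀) ⟨χ₁, h₁⟩ ⟨χ₂', h₂'⟩ hne' k
      (hsymm _ _ hB₁) (hsymm _ _ hΓ₁) (hsymm _ _ hB₂') (hsymm _ _ hΓ₂') hk
    omega
  rw [heq, hχ₂', Pi.mul_apply, homFun_detHom_toGL, mul_one]

end analysis

end glsec

end Cfsg.Agent.Lib.Helper82.SLDZ
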